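import Mathlib

/-! helper7: cartesian squares of rings `B' = B ×_R R'`: localizing at compatible elements, and the
resulting open immersion of a union of basic opens of `Spec R'` into `Spec B'`. -/

set_option autoImplicit false
set_option linter.style.haveILetI false
set_option linter.unusedVariables false
set_option linter.unusedSectionVars false
universe u

noncomputable section

namespace Groth.Agent.Helper7.CartSq

open CategoryTheory CategoryTheory.Limits AlgebraicGeometry

section alg
variable {B B' R R' : Type u} [CommRing B] [CommRing B'] [CommRing R] [CommRing R']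
  (s : B →+* R) (t : R' →+* R) (p : B' →+* B) (q : B' →+* R')

theorem comm_of_isPullback
    (hsq : IsPullback (CommRingCat.ofHom p) (CommRingCat.ofHom q) (CommRingCat.ofHom s)
      (CommRingCat.ofHom t)) (x : B') : s (p x) = t (q x) := by
  have := congrArg (fun φ => φ.hom x) hsq.w
  simpa using this

theorem exists_of_isPullback
    (hsq : IsPullback (CommRingCat.ofHom p) (CommRingCat.ofHom q) (CommRingCat.ofHom s)
      (CommRingCat.ofHom t)) (b : B) (r' : R') (h : s b = t r') :
    ∃ b' : B', p b' = b ∧ q b' = r' := by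
  let e := hsq.isLimit.conePointUniqueUpToIso
    (CommRingCat.pullbackConeIsLimit (CommRingCat.ofHom s) (CommRingCat.ofHom t))
  have h1 : e.inv ≫ CommRingCat.ofHom p =
      (CommRingCat.pullbackCone (CommRingCat.ofHom s) (CommRingCat.ofHom t)).fst :=
    hsq.isLimit.conePointUniqueUpToIso_inv_comp _ WalkingCospan.left
  have h2 : e.inv ≫ CommRingCat.ofHom q =
      (CommRingCat.pullbackCone (CommRingCat.ofHom s) (CommRingCat.ofHom t)).snd :=
    hsq.isLimit.conePointUniqueUpToIso_inv_comp _ WalkingCospan.right
  let x : (CommRingCat.pullbackCone (CommRingCat.ofHom s) (CommRingCat.ofHom t)).pt :=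
    ⟨(b, r'), h⟩
  refine ⟨e.inv.hom x, ?_, ?_⟩
  · have := congrArg (fun φ => φ.hom x) h1
    exact this
  · have := congrArg (fun φ => φ.hom x) h2
    exact this

theorem eq_of_isPullback
    (hsq : IsPullback (CommRingCat.ofHom p) (CommRingCat.ofHom q) (CommRingCat.ofHom s)
      (CommRingCat.ofHom t)) (x y : B') (h1 : p x = p y) (h2 : q x = q y) : x = y := by
  let e := hsq.isLimit.conePointUniqueUpToIso
    (CommRingCat.pullbackConeIsLimit (CommRingCat.ofHom s) (CommRingCat.ofHom t))
  have e1 : e.hom ≫ (CommRingCat.pullbackCone (CommRingCat.ofHom s) (CommRingCat.ofHom t)).fst =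
      CommRingCat.ofHom p :=
    hsq.isLimit.conePointUniqueUpToIso_hom_comp _ WalkingCospan.left
  have e2 : e.hom ≫ (CommRingCat.pullbackCone (CommRingCat.ofHom s) (CommRingCat.ofHom t)).snd =
      CommRingCat.ofHom q :=
    hsq.isLimit.conePointUniqueUpToIso_hom_comp _ WalkingCospan.right
  have f1 : ∀ z : B', (e.hom.hom z).1.1 = p z := fun z => congrArg (fun φ => φ.hom z) e1
  have f2 : ∀ z : B', (e.hom.hom z).1.2 = q z := fun z => congrArg (fun φ => φ.hom z) e2
  have h3 : e.hom.hom x = e.hom.hom y := by
    apply Subtype.ext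
    apply Prod.ext
    · rw [f1, f1, h1]
    · rw [f2, f2, h2]
  have h4 := congrArg e.inv.hom h3
  have h5 : ∀ z : B', e.inv.hom (e.hom.hom z) = z := fun z => by
    have := congrArg (fun φ => φ.hom z) e.hom_inv_id
    exact this
  rwa [h5, h5] at h4

/-- abstract form of a cartesian square of rings -/
structure IsCart : Prop where
  comm : ∀ x, s (p x) = t (q x)
  ex : ∀ b r', s b = t r' → ∃ b' : B', p b' = b ∧ q b' = r'
  uniq : ∀ x y, p x = p y → q x = q y → x = y

theorem isCart_of_isPullback
    (hsq : IsPullback (CommRingCat.ofHom p) (CommRingCat.ofHom q) (CommRingCat.ofHom s)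
      (CommRingCat.ofHom t)) : IsCart s t p q :=
  ⟨comm_of_isPullback s t p q hsq, exists_of_isPullback s t p q hsq,
    eq_of_isPullback s t p q hsq⟩

variable {s t p q}

theorem IsCart.sur (H : IsCart s t p q) {f : R'} {g : B} (hfg : t f = s g)
    (hs : Function.Surjective (Localization.awayMap s g)) (r' : R') :
    ∃ (b' : B') (N : ℕ), q b' = r' * f ^ N := by
  rw [Localization.awayMap_surjective_iff] at hs
  obtain ⟨b, m, hb⟩ := hs (t r')
  obtain ⟨b', -, hb'⟩ := H.ex b (r' * f ^ m) (by
    rw [hb, map_mul, map_pow, hfg, mul_comm])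
  exact ⟨b', m, hb'⟩

theorem IsCart.inj (H : IsCart s t p q) {f : R'} {g : B} {h : B'} (hp : p h = g) (hq : q h = f)
    (hi : Function.Injective (Localization.awayMap s g)) (c : B') (hc : q c = 0) :
    ∃ M : ℕ, h ^ M * c = 0 := by
  rw [Localization.awayMap_injective_iff] at hi
  obtain ⟨M, hM⟩ := hi (p c) (by rw [H.comm, hc, map_zero])
  refine ⟨M, H.uniq _ _ ?_ ?_⟩
  · rw [map_mul, map_pow, hp, hM, map_zero]
  · rw [map_mul, hc, mul_zero, map_zero]

theorem IsCart.isLocalization_away (H : IsCart s t p q) {f : R'} {g : B} {h : B'}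
    (hp : p h = g) (hq : q h = f)
    (hiso : Function.Bijective (Localization.awayMap s g)) :
    letI := ((algebraMap R' (Localization.Away f)).comp q).toAlgebra
    IsLocalization.Away h (Localization.Away f) := by
  letI := ((algebraMap R' (Localization.Away f)).comp q).toAlgebra
  have hfg : t f = s g := by rw [← hp, ← hq, H.comm]
  have halg : ∀ x : B', algebraMap B' (Localization.Away f) x =
      algebraMap R' (Localization.Away f) (q x) := fun x => rfl
  refine IsLocalization.Away.mk h ?_ ?_ ?_
  · rw [halg, hq]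
    exact IsLocalization.Away.algebraMap_isUnit f
  · intro z
    obtain ⟨n, r', hz⟩ := IsLocalization.Away.surj f z
    obtain ⟨b', N, hb'⟩ := H.sur hfg hiso.2 r'
    refine ⟨n + N, b', ?_⟩
    rw [halg, halg, hq, hb', map_mul, ← hz, map_pow, pow_add]
    ring
  · intro a b hab
    rw [halg, halg] at hab
    obtain ⟨N, hN⟩ := IsLocalization.Away.exists_of_eq f hab
    obtain ⟨M, hM⟩ := H.inj hp hq hiso.1 (h ^ N * (a - b)) (by
      rw [map_mul, map_pow, hq, map_sub, mul_sub, hN, sub_self])
    refine ⟨M + N, ?_⟩
    have : h ^ (M + N) * a - h ^ (M + N) * b = h ^ M * (h ^ N * (a - b)) := by ring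
    exact sub_eq_zero.mp (this.trans hM)

end alg

section geom
variable {B B' R R' : Type u} [CommRing B] [CommRing B'] [CommRing R] [CommRing R']
  {s : B →+* R} {t : R' →+* R} {p : B' →+* B} {q : B' →+* R'}

theorem IsCart.le_of_comap_le (H : IsCart s t p q) {f : R'} {g : B} (hfg : t f = s g)
    (hs : Function.Surjective (Localization.awayMap s g)) (P P' : Ideal R') [P'.IsPrime]
    (hf : f ∉ P') (hle : Ideal.comap q P ≤ Ideal.comap q P') : P ≤ P' := by
  intro r hr
  obtain ⟨b', N, hb'⟩ := H.sur hfg hs r
  have h1 : b' ∈ Ideal.comap q P := by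
    rw [Ideal.mem_comap, hb']
    exact Ideal.mul_mem_right _ _ hr
  have h2 := hle h1
  rw [Ideal.mem_comap, hb'] at h2
  rcases Ideal.IsPrime.mem_or_mem inferInstance h2 with h3 | h3
  · exact h3
  · exact absurd (Ideal.IsPrime.mem_of_pow_mem inferInstance N h3) hf

theorem main (H : IsCart s t p q) {n : ℕ} (f : Fin n → R') (g : Fin n → B)
    (hfg : ∀ i, t (f i) = s (g i))
    (hiso : ∀ i, Function.Bijective (Localization.awayMap s (g i))) :
    IsOpenImmersion (Scheme.Opens.ι (X := Spec (CommRingCat.of R'))
      (⨆ i, PrimeSpectrum.basicOpen (f i)) ≫ Spec.map (CommRingCat.ofHom q)) := by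
  have hh : ∀ i, ∃ h : B', p h = g i ∧ q h = f i := fun i => H.ex (g i) (f i) (hfg i).symm
  choose h hp hq using hh
  have hmem : ∀ x : ↥(Scheme.Opens.toScheme (X := Spec (CommRingCat.of R'))
      (⨆ i, PrimeSpectrum.basicOpen (f i))), ∃ i, f i ∉ (x.1 : PrimeSpectrum R').asIdeal := by
    intro x
    exact (TopologicalSpace.Opens.mem_iSup (ι := Fin n)
      (s := fun i => (PrimeSpectrum.basicOpen (f i) :
        TopologicalSpace.Opens (PrimeSpectrum R')))).mp x.2
  apply IsOpenImmersion.of_forall_source_exists
  · intro x y hxy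
    have hxy' : PrimeSpectrum.comap q (x.1 : PrimeSpectrum R') =
        PrimeSpectrum.comap q (y.1 : PrimeSpectrum R') := hxy
    have hI : Ideal.comap q (x.1 : PrimeSpectrum R').asIdeal =
        Ideal.comap q (y.1 : PrimeSpectrum R').asIdeal :=
      congrArg PrimeSpectrum.asIdeal hxy'
    obtain ⟨i, hi⟩ := hmem x
    have hi' : f i ∉ (y.1 : PrimeSpectrum R').asIdeal := by
      intro hc
      apply hi
      have : h i ∈ Ideal.comap q (y.1 : PrimeSpectrum R').asIdeal := by
        rw [Ideal.mem_comap, hq]; exact hc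
      rw [← hI, Ideal.mem_comap, hq] at this
      exact this
    apply Subtype.ext
    apply PrimeSpectrum.ext
    apply le_antisymm
    · exact H.le_of_comap_le (hfg i) (hiso i).2 _ _ hi' hI.le
    · exact H.le_of_comap_le (hfg i) (hiso i).2 _ _ hi hI.ge
  · intro x
    obtain ⟨i, hi⟩ := hmem x
    let a : Spec (CommRingCat.of (Localization.Away (f i))) ⟶ Spec (CommRingCat.of R') :=
      Spec.map (CommRingCat.ofHom (algebraMap R' (Localization.Away (f i))))
    have hrange : Set.range a.base = (PrimeSpectrum.basicOpen (f i) : Set (PrimeSpectrum R')) :=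
      PrimeSpectrum.localization_away_comap_range _ (f i)
    have ha : Set.range a.base ⊆ Set.range (Scheme.Opens.ι (X := Spec (CommRingCat.of R'))
        (⨆ i, PrimeSpectrum.basicOpen (f i))).base := by
      rw [Scheme.Opens.range_ι, hrange]
      exact le_iSup (fun i => PrimeSpectrum.basicOpen (f i)) i
    let ι' := IsOpenImmersion.lift (Scheme.Opens.ι (X := Spec (CommRingCat.of R'))
        (⨆ i, PrimeSpectrum.basicOpen (f i))) a ha
    have hι' : ι' ≫ (Scheme.Opens.ι (X := Spec (CommRingCat.of R'))
        (⨆ i, PrimeSpectrum.basicOpen (f i))) = a := IsOpenImmersion.lift_fac _ _ _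
    haveI : IsOpenImmersion ι' := by
      have h3 : IsOpenImmersion (ι' ≫ (Scheme.Opens.ι (X := Spec (CommRingCat.of R'))
          (⨆ i, PrimeSpectrum.basicOpen (f i)))) := by
        rw [hι']
        infer_instance
      exact @IsOpenImmersion.of_comp _ _ _ ι' (Scheme.Opens.ι (X := Spec (CommRingCat.of R'))
          (⨆ i, PrimeSpectrum.basicOpen (f i))) inferInstance h3
    refine ⟨_, ι', inferInstance, ?_, ?_⟩
    · have hx : (x.1 : PrimeSpectrum R') ∈ Set.range a.base := by
        rw [hrange]; exact hi
      obtain ⟨z, hz⟩ := hx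
      refine ⟨z, ?_⟩
      apply Subtype.ext
      have := congrArg (fun φ => φ.base z) hι'
      exact this.trans hz
    · rw [← Category.assoc, hι']
      letI := ((algebraMap R' (Localization.Away (f i))).comp q).toAlgebra
      haveI := H.isLocalization_away (hp i) (hq i) (hiso i)
      have : a ≫ Spec.map (CommRingCat.ofHom q) =
          Spec.map (CommRingCat.ofHom (algebraMap B' (Localization.Away (f i)))) := by
        rw [← Spec.map_comp]
        rfl
      rw [this]
      exact IsOpenImmersion.of_isLocalization (h i)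

end geom

end Groth.Agent.Helper7.CartSq
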